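import Cfsg.Agent.H357.CV.Tool
import Cfsg.Agent.S0822
import Cfsg.Agent.S0270
import Cfsg.Agent.SmallSimple.S1000.Order25920PSp

/-!
# S3442: `PSU₄(2) ≅ PSp₄(3)` (helper467)

* `hit_of_25920` : simple groups of order 25920 with Frobenius subgroups `3ᵃ:4`, `2ᵇ:5`, without elements of order 8.
* `hit_psu42`, `hit_psp43`.
-/

set_option autoImplicit false

namespace Cfsg.Agent.H467.CV

open Finset Cfsg Cfsg.Agent.H373.CV Cfsg.Agent.H357.CV

universe u v

/-- the Frobenius subgroups -/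
def FrA (L : Type v) [Group L] : Prop := ∃ (U : Subgroup L) (c : L), U ≠ ⊥ ∧ IsPGroup 3 U ∧ orderOf c = 4 ∧
  (∀ a ∈ U, c * a * c⁻¹ ∈ U) ∧ ∀ a ∈ U, c ^ 2 * a = a * c ^ 2 → a = 1

def FrB (L : Type v) [Group L] : Prop := ∃ (U : Subgroup L) (c : L), U ≠ ⊥ ∧ IsPGroup 2 U ∧ orderOf c = 5 ∧
  (∀ a ∈ U, c * a * c⁻¹ ∈ U)

theorem not_dvd_of_isPGroup {L : Type v} [Group L] [Finite L] {p r : ℕ} (hp : p.Prime) (hr : r.Prime) (h : r ≠ p)
    {U : Subgroup L} (hU : IsPGroup p U) : ¬ r ∣ Nat.card U := by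
  have : Fact p.Prime := ⟨hp⟩
  obtain ⟨n, hn⟩ := (IsPGroup.iff_card (p := p)).1 hU
  rw [hn]
  intro h1
  exact h ((Nat.prime_dvd_prime_iff_eq hr hp).1 (hr.dvd_of_dvd_pow h1))

theorem hit_of_25920 {L : Type v} [Group L] [Finite L] [IsSimpleGroup L] (hc : Nat.card L = 25920) (hA : FrA L)
    (hB : FrB L) (h8 : ∀ y : L, orderOf y ≠ 8) {r : ℕ} (hr : r.Prime) : Hit.{u, v} r L := by
  have hself := fun {x : L} (hx : orderOf x = 5) =>
    SmallSimple.S1000.Order25920Local.self_cent hc hx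
  -- a centralizer of an element of order five
  have hcen : ∀ {x a : L}, orderOf x = 5 → x * a = a * x → orderOf a ∣ 5 := by
    intro x a hx hxa
    have h1 : a ∈ Subgroup.centralizer ({x} : Set L) := by
      rw [Subgroup.mem_centralizer_singleton_iff]
      exact hxa.symm
    rw [hself hx] at h1
    obtain ⟨k, rfl⟩ := Subgroup.mem_zpowers_iff.1 h1
    apply orderOf_dvd_of_pow_eq_one
    rw [← zpow_natCast, ← zpow_mul, mul_comm, zpow_mul, zpow_natCast, ← hx, pow_orderOf_eq_one, one_zpow]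
  -- no elements of order `5 k`
  have hk : ∀ k : ℕ, 1 < k → ∀ y : L, orderOf y ≠ 5 * k := by
    intro k hk y hy
    have h1 : orderOf (y ^ k) = 5 := by
      rw [orderOf_pow' y (by omega), hy, Nat.gcd_eq_right (Dvd.intro_left 5 rfl)]
      exact Nat.mul_div_cancel _ (by omega)
    have h2 := hcen h1 (a := y) (by rw [← pow_succ, ← pow_succ'])
    rw [hy] at h2
    have h3 := Nat.le_of_dvd (by norm_num) h2
    omega
  obtain ⟨U5, c5, hU5, hp5, ho5, hn5⟩ := hB
  by_cases hd : r ∣ Nat.card L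
  swap
  · exact Hit.of_not_dvd hd
  rw [hc] at hd
  have hr' : r = 2 ∨ r = 3 ∨ r = 5 := by
    have h1 : r ∈ Nat.primeFactors 25920 := Nat.mem_primeFactors.2 ⟨hr, hd, by norm_num⟩
    have h2 : Nat.primeFactors 25920 = {2, 3, 5} := by decide +kernel
    rw [h2] at h1
    simpa using h1
  rcases hr' with rfl | rfl | rfl
  · obtain ⟨U, c, hU, hp, ho, hn, hf⟩ := hA
    refine hit_of_frob hr ⟨c5, by rw [ho5]; norm_num, fun y => ?_⟩ U hU (not_dvd_of_isPGroup Nat.prime_three hr (by norm_num) hp) c hn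
      (fix_of_primes U c ?_) ?_
    · rw [ho5, mul_comm]; exact hk 2 (by norm_num) y
    · intro t ht htd a ha h
      rw [ho] at htd h
      have ht2 : t = 2 := by
        have : t ∣ 2 ^ 2 := by simpa using htd
        exact (Nat.prime_dvd_prime_iff_eq ht Nat.prime_two).1 (ht.dvd_of_dvd_pow this)
      subst ht2
      exact hf a ha h
    · rw [ho]; exact h8
  · refine hit_of_frob hr ⟨c5, by rw [ho5]; norm_num, fun y => ?_⟩ U5 hU5 (not_dvd_of_isPGroup Nat.prime_two hr (by norm_num) hp5) c5 hn5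
      (fix_of_primes U5 c5 ?_) ?_
    · rw [ho5, mul_comm]; exact hk 3 (by norm_num) y
    · intro t ht htd a ha h
      rw [ho5] at htd h
      have ht5 : t = 5 := (Nat.prime_dvd_prime_iff_eq ht (by norm_num)).1 htd
      subst ht5
      rw [Nat.div_self (by norm_num), pow_one] at h
      have h1 := hcen ho5 h
      have h2 : orderOf a ∣ Nat.card U5 := by
        have := orderOf_dvd_natCard (⟨a, ha⟩ : U5)
        rwa [Subgroup.orderOf_mk] at this
      have h3 : orderOf a = 1 := by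
        rcases (Nat.dvd_prime (by norm_num)).1 h1 with h4 | h4
        · exact h4
        · rw [h4] at h2
          exact absurd h2 (not_dvd_of_isPGroup Nat.prime_two (by norm_num) (by norm_num) hp5)
      exact orderOf_eq_one_iff.1 h3
    · rw [ho5, mul_comm]; exact hk 3 (by norm_num)
  · -- an involution
    obtain ⟨z, hz⟩ := exists_prime_orderOf_dvd_card' (G := L) 2 (by rw [hc]; norm_num)
    refine hit_of_two hr (by norm_num) ?_ hz (fun y => by rw [mul_comm]; exact hk 2 (by norm_num) y)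
    by_contra hcon
    push Not at hcon
    exact SmallSimple.S1000.Order25920Local.not_comm hc ⟨⟨hcon⟩⟩

theorem FrA.congr {L : Type u} {M : Type v} [Group L] [Group M] (f : L ≃* M) (h : FrA L) : FrA M := by
  obtain ⟨U, c, hU, hp, ho, hn, hf⟩ := h
  refine ⟨U.map f.toMonoidHom, f c, ?_, hp.map _, ?_, ?_, ?_⟩
  · rwa [Ne, Subgroup.map_eq_bot_iff_of_injective _ f.injective]
  · rw [MulEquiv.orderOf_eq, ho]
  · rintro _ ⟨a, ha, rfl⟩
    exact ⟨_, hn a ha, by simp⟩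
  · rintro _ ⟨a, ha, rfl⟩ h
    have : c ^ 2 * a = a * c ^ 2 := f.injective (by simpa using h)
    rw [hf a ha this]; simp

theorem FrB.congr {L : Type u} {M : Type v} [Group L] [Group M] (f : L ≃* M) (h : FrB L) : FrB M := by
  obtain ⟨U, c, hU, hp, ho, hn⟩ := h
  refine ⟨U.map f.toMonoidHom, f c, ?_, hp.map _, ?_, ?_⟩
  · rwa [Ne, Subgroup.map_eq_bot_iff_of_injective _ f.injective]
  · rw [MulEquiv.orderOf_eq, ho]
  · rintro _ ⟨a, ha, rfl⟩
    exact ⟨_, hn a ha, by simp⟩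

/-! ### The group `PSp₄(3)` -/

open Cfsg.Agent.Lib.FieldThree (F3)
open Cfsg.Agent.Lib.FieldFour (F4)

theorem simple_psp : IsSimpleGroup (PSp 2 F3) := Cfsg.Agent.S0270.result 2 le_rfl (fun _ => le_rfl)

theorem frB_psp : FrB (PSp 2 F3) := by
  have := simple_psp
  have hf : Finite (PSp 2 F3) := Nat.finite_of_card_ne_zero (by rw [S0822.card_PSp]; norm_num)
  obtain ⟨x, hx, hxn, -⟩ := SmallSimple.S1000.Order25920Local.local_structure S0822.card_PSp
    SmallSimple.S1000.Order25920PSp.Q0 SmallSimple.S1000.Order25920PSp.Q0_two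
    SmallSimple.S1000.Order25920PSp.Q0_ne_bot SmallSimple.S1000.Order25920PSp.not_solvable
  exact ⟨_, x, SmallSimple.S1000.Order25920PSp.Q0_ne_bot, SmallSimple.S1000.Order25920PSp.Q0_two, hx,
    fun a ha => (Subgroup.mem_normalizer_iff.1 hxn a).1 ha⟩

/-! ### The group `PSU₄(2)` -/

open Matrix

abbrev U4 := SU 4 F4 2

/-- the matrix of an element -/
def mt (g : U4) : Matrix (Fin 4) (Fin 4) F4 := ((g : Matrix.SpecialLinearGroup (Fin 4) F4) : Matrix (Fin 4) (Fin 4) F4)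

theorem mt_mul (g h : U4) : mt (g * h) = mt g * mt h := rfl

theorem mt_one : mt 1 = 1 := rfl

theorem mt_inj {g h : U4} (e : mt g = mt h) : g = h := Subtype.ext (Subtype.ext e)

theorem mt_pow (g : U4) (k : ℕ) : mt (g ^ k) = mt g ^ k := by
  induction k with
  | zero => rfl
  | succ k ih => rw [pow_succ, mt_mul, ih, pow_succ]

theorem two_eq : (2 : F4) = 0 := by decide

/-- unipotent matrices of degree four in characteristic two have exponent four -/
theorem pow_four_eq {M : Matrix (Fin 4) (Fin 4) F4} (h : M ^ 8 = 1) : M ^ 4 = 1 := by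
  have h2 : (2 : Matrix (Fin 4) (Fin 4) F4) = 0 := by
    ext i j
    fin_cases i <;> fin_cases j <;> decide
  have hN : IsNilpotent (M + 1) := by
    refine ⟨8, ?_⟩
    have e : (M + 1) ^ 8 = M ^ 8 + 1 + 2 * (4 * M ^ 7 + 14 * M ^ 6 + 28 * M ^ 5 + 35 * M ^ 4 + 28 * M ^ 3 + 14 * M ^ 2 + 4 * M) := by
      noncomm_ring
    rw [e, h, h2, zero_mul, add_zero, one_add_one_eq_two, h2]
  have hc : (M + 1).charpoly = Polynomial.X ^ 4 := by
    have h1 := Matrix.isNilpotent_charpoly_sub_pow_of_isNilpotent hN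
    have h3 := h1.eq_zero
    rw [sub_eq_zero] at h3
    rw [h3, Fintype.card_fin]
  have h4 : (M + 1) ^ 4 = 0 := by
    have := Matrix.aeval_self_charpoly (M + 1)
    rwa [hc, map_pow, Polynomial.aeval_X] at this
  have e : (M + 1) ^ 4 = M ^ 4 + 1 + 2 * (2 * M ^ 3 + 3 * M ^ 2 + 2 * M) := by
    noncomm_ring
  rw [e, h2, zero_mul, add_zero] at h4
  have h5 : M ^ 4 = -1 := eq_neg_of_add_eq_zero_left h4
  rw [h5, neg_eq_iff_add_eq_zero, one_add_one_eq_two, h2]

theorem no_eight (g : U4) : orderOf g ≠ 8 := by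
  intro h
  have h1 : g ^ 8 = 1 := by rw [← h, pow_orderOf_eq_one]
  have h2 : g ^ 4 = 1 := by
    apply mt_inj
    rw [mt_pow, mt_one]
    apply pow_four_eq
    rw [← mt_pow, h1, mt_one]
  have h3 := Nat.le_of_dvd (by norm_num) (orderOf_dvd_of_pow_eq_one h2)
  omega

/-- `SU₄(2) = PSU₄(2)` -/
noncomputable def eqv : U4 ≃* PSU 4 F4 2 :=
  ((QuotientGroup.quotientMulEquivOfEq S0822.center_U).trans QuotientGroup.quotientBot).symm

/-- the matrix `diag (a, b, a⁻¹, b⁻¹)` -/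
def dm (a b : F4ˣ) : Matrix (Fin 4) (Fin 4) F4 := Matrix.diagonal ![(a : F4), (b : F4), ((a⁻¹ : F4ˣ) : F4), ((b⁻¹ : F4ˣ) : F4)]

/-- the cyclic permutation -/
def cm : Matrix (Fin 4) (Fin 4) F4 := !![0, 0, 0, 1; 1, 0, 0, 0; 0, 1, 0, 0; 0, 0, 1, 0]

theorem cm_det : cm.det = 1 := by decide +kernel

theorem units_cube : ∀ a : F4ˣ, a ^ 3 = 1 := by decide

theorem dm_det (a b : F4ˣ) : (dm a b).det = 1 := by
  rw [dm, Matrix.det_diagonal, Fin.prod_univ_four]
  show (a : F4) * b * ((a⁻¹ : F4ˣ) : F4) * ((b⁻¹ : F4ˣ) : F4) = 1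
  rw [← Units.val_mul, ← Units.val_mul, ← Units.val_mul, mul_comm a b, mul_assoc b a, mul_inv_cancel, mul_one,
    mul_inv_cancel, Units.val_one]

theorem dm_isom (a b : F4ˣ) (u v : Fin 4 → F4) : hermForm 4 F4 2 (dm a b *ᵥ u) (dm a b *ᵥ v) = hermForm 4 F4 2 u v := by
  have h3 : ∀ c : F4ˣ, (c : F4) ^ 3 = 1 := fun c => by rw [← Units.val_pow_eq_pow_val, units_cube, Units.val_one]
  rw [hermForm, hermForm]
  apply Finset.sum_congr rfl
  intro i _
  rw [dm, Matrix.mulVec_diagonal, Matrix.mulVec_diagonal]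
  have h4 : (![(a : F4), (b : F4), ((a⁻¹ : F4ˣ) : F4), ((b⁻¹ : F4ˣ) : F4)] i) ^ 3 = 1 := by
    fin_cases i
    · exact h3 a
    · exact h3 b
    · exact h3 a⁻¹
    · exact h3 b⁻¹
  linear_combination (u i * v i ^ 2) * h4

theorem cm_isom (u v : Fin 4 → F4) : hermForm 4 F4 2 (cm *ᵥ u) (cm *ᵥ v) = hermForm 4 F4 2 u v := by
  have h : ∀ w : Fin 4 → F4, cm *ᵥ w = ![w 3, w 0, w 1, w 2] := by
    intro w
    ext i
    fin_cases i <;> simp [cm, Matrix.mulVec, dotProduct, Fin.sum_univ_four]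
  rw [h, h, hermForm, hermForm, Fin.sum_univ_four, Fin.sum_univ_four]
  simp
  ring

def dg (a b : F4ˣ) : U4 := ⟨⟨dm a b, dm_det a b⟩, dm_isom a b⟩
def cg : U4 := ⟨⟨cm, cm_det⟩, cm_isom⟩

theorem dg_mul (a b a' b' : F4ˣ) : dg (a * a') (b * b') = dg a b * dg a' b' := by
  apply mt_inj
  rw [mt_mul]
  show dm _ _ = dm _ _ * dm _ _
  rw [dm, dm, dm, Matrix.diagonal_mul_diagonal]
  congr 1
  ext i
  fin_cases i <;> simp [mul_comm]

theorem dg_one : dg 1 1 = 1 := by
  apply mt_inj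
  show dm 1 1 = 1
  rw [dm, ← Matrix.diagonal_one]
  congr 1
  ext i
  fin_cases i <;> simp

/-- the diagonal subgroup of order nine -/
def dH : F4ˣ × F4ˣ →* U4 where
  toFun p := dg p.1 p.2
  map_one' := dg_one
  map_mul' p q := dg_mul p.1 p.2 q.1 q.2

theorem cg_dg (a b : F4ˣ) : cg * dg a b = dg b⁻¹ a * cg := by
  apply mt_inj
  rw [mt_mul, mt_mul]
  show cm * dm a b = dm b⁻¹ a * cm
  ext i j
  rw [dm, dm, Matrix.mul_diagonal, Matrix.diagonal_mul]
  fin_cases i <;> fin_cases j <;> simp [cm]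

theorem cg_sq : cg ^ 2 ≠ 1 := by
  intro h
  have h1 := congrArg mt h
  rw [mt_pow] at h1
  have h2 := congrFun (congrFun h1 0) 0
  revert h2
  show ¬ (cm ^ 2) 0 0 = (1 : Matrix (Fin 4) (Fin 4) F4) 0 0
  rw [pow_two]
  decide +kernel

theorem cg_four : cg ^ 4 = 1 := by
  apply mt_inj
  rw [mt_pow]
  show cm ^ 4 = 1
  rw [show cm ^ 4 = (cm * cm) * (cm * cm) by simp only [pow_succ, pow_zero, one_mul, mul_assoc]]
  decide +kernel

theorem frA_su : FrA U4 := by
  refine ⟨dH.range, cg, ?_, ?_, ?_, ?_, ?_⟩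
  · intro h
    have h1 : dH (Units.mk0 F4.w (by decide), 1) ∈ dH.range := ⟨_, rfl⟩
    rw [h, Subgroup.mem_bot] at h1
    have h2 := congrFun (congrFun (congrArg mt h1) 0) 0
    revert h2
    show ¬ dm (Units.mk0 F4.w (by decide)) 1 0 0 = (1 : Matrix (Fin 4) (Fin 4) F4) 0 0
    decide
  · rintro ⟨_, p, rfl⟩
    refine ⟨1, ?_⟩
    apply Subtype.ext
    show dH p ^ 3 ^ 1 = 1
    rw [pow_one, ← map_pow]
    have : p ^ 3 = 1 := Prod.ext (units_cube _) (units_cube _)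
    rw [this, map_one]
  · exact orderOf_eq_prime_pow (p := 2) (n := 1) (by simpa using cg_sq) (by simpa using cg_four)
  · rintro _ ⟨p, rfl⟩
    refine ⟨(p.2⁻¹, p.1), ?_⟩
    show dg _ _ = cg * dg p.1 p.2 * cg⁻¹
    rw [cg_dg, mul_assoc, mul_inv_cancel, mul_one]
  · rintro _ ⟨⟨a, b⟩, rfl⟩ h
    have h1 : cg ^ 2 * dg a b = dg a⁻¹ b⁻¹ * cg ^ 2 := by
      rw [pow_two, mul_assoc, cg_dg, ← mul_assoc, cg_dg, mul_assoc]
    have h2 : dg a b = dg a⁻¹ b⁻¹ := mul_right_cancel (h.symm.trans h1)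
    have h3 : ∀ a : F4ˣ, (a : F4) = ((a⁻¹ : F4ˣ) : F4) → a = 1 := by decide
    have h4 := congrArg mt h2
    have ea : a = 1 := h3 a (congrFun (congrFun h4 0) 0)
    have eb : b = 1 := h3 b (congrFun (congrFun h4 1) 1)
    rw [ea, eb]
    exact dg_one

/-! ### The rows -/

theorem hit_psp43' {r : ℕ} (hr : r.Prime) : Hit.{u, 0} r (PSp 2 F3) := by
  obtain ⟨f⟩ := S0822.result (F := F4) (K := F3) rfl rfl
  have := simple_psp
  have hf : Finite (PSp 2 F3) := Nat.finite_of_card_ne_zero (by rw [S0822.card_PSp]; norm_num)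
  refine hit_of_25920 S0822.card_PSp (frA_su.congr (eqv.trans f)) frB_psp ?_ hr
  intro y hy
  apply no_eight ((eqv.trans f).symm y)
  rw [MulEquiv.orderOf_eq, hy]

/-- **S3442, `PSp₄(3)`.** -/
theorem hit_psp43 {K : Type v} [Field K] [Fintype K] (hK : Fintype.card K = 3) {r : ℕ} (hr : r.Prime) :
    Hit.{u, v} r (PSp 2 K) :=
  (hit_psp43' hr).congr (Cfsg.Agent.LieClassical.FieldTransfer.pspCongr 2 (Cfsg.Agent.Lib.FieldThree.equivOfCard hK))

/-- **S3442, `PSU₄(2)`.** -/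
theorem hit_psu42 {F : Type v} [Field F] [Fintype F] (hF : Fintype.card F = 4) {r : ℕ} (hr : r.Prime) :
    Hit.{u, v} r (PSU 4 F 2) := by
  obtain ⟨f⟩ := S0822.result (F := F) (K := F3) hF rfl
  exact (hit_psp43' hr).congr f

end Cfsg.Agent.H467.CV
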