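import Cfsg.Agent.H858.CV.Core
import Cfsg.Agent.H548.CV.SpEight
import Cfsg.Agent.H732.SelfCent
import Cfsg.Agent.H403.SpEvenFinal
import Cfsg.Agent.S2264
import Cfsg.Agent.LieClassical.FieldTransfer

/-!
# S3442: `PSp₆(2)` in characteristic two (helper467)

`V₆ = P₁ ⊥ P₂ ⊥ P₃`, `t₁, t₂, t₃` of order three on the planes. If the norms of `t₃ u` (order 12; `⟨t₁, t₂⟩⟨u⟩ = 3²:4` commutes
with `t₃`) and of `x` (order 7; `⟨x⟩⟨t₁ t₃⟩ = 7:3`) vanish on `W` then `C_W(t₃) = C_W(t₁)`, so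
`[W, t₁ t₃⁻¹] ≤ C_W(t₁ t₃)`, `|W| ≤ |C|²`, and `|C|³ ≤ |W|` from `7:3`: `W = 0`.
-/

set_option autoImplicit false
open Finset Cfsg Cfsg.Agent.H373.CV Cfsg.Agent.H858.CV

namespace Cfsg.Agent.H467.CV

universe u v

section abstr
variable {L : Type v} [Group L] {W : Type u} [AddCommGroup W] (φ : L →* AddMonoid.End W)

theorem add_self' (h2 : ∀ w : W, 2 • w = 0) (w : W) : w + w = 0 := by rw [← two_nsmul, h2]

theorem eq_of_add (h2 : ∀ w : W, 2 • w = 0) {a b : W} (h : a + b = 0) : a = b := by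
  rw [eq_neg_of_add_eq_zero_left h, neg_eq_iff_add_eq_zero, add_self' h2]

variable {φ} in
/-- `[W, d₂] ≤ C_W(d₁)`. -/
theorem fix_of {t s : L} (h2 : ∀ w : W, 2 • w = 0) (hts : t * s = s * t) (ht : t ^ 3 = 1) (hs : s ^ 3 = 1)
    (h1 : ∀ w, φ t w = w → φ s w = w) (h3 : ∀ w, φ s w = w → φ t w = w) (w : W) :
    φ (t * s) (φ (t * s ^ 2) w + w) = φ (t * s ^ 2) w + w := by
  have N : ∀ {x : L}, x ^ 3 = 1 → ∀ w, φ x (w + φ x w + φ (x ^ 2) w) = w + φ x w + φ (x ^ 2) w := by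
    intro x hx w
    rw [map_add, map_add, ← ap, ← ap, ← pow_succ', hx, ap_one, ← pow_two]
    abel
  have hcomm : ∀ i j : ℕ, t ^ i * s ^ j = s ^ j * t ^ i := fun i j => ((show Commute t s from hts).pow_pow i j).eq
  -- `A w = B w`
  have hAB : w + φ t w + φ (t ^ 2) w = w + φ s w + φ (s ^ 2) w := by
    have e1 : φ s (w + φ t w + φ (t ^ 2) w) = w + φ t w + φ (t ^ 2) w := h1 _ (N ht w)
    have e2 : φ t (w + φ s w + φ (s ^ 2) w) = w + φ s w + φ (s ^ 2) w := h3 _ (N hs w)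
    have e1' : φ (s ^ 2) (w + φ t w + φ (t ^ 2) w) = w + φ t w + φ (t ^ 2) w := fix_pow e1 2
    have e2' : φ (t ^ 2) (w + φ s w + φ (s ^ 2) w) = w + φ s w + φ (s ^ 2) w := fix_pow e2 2
    -- both are `B (A w)`
    have k1 : (w + φ t w + φ (t ^ 2) w) + φ s (w + φ t w + φ (t ^ 2) w) + φ (s ^ 2) (w + φ t w + φ (t ^ 2) w) =
        w + φ t w + φ (t ^ 2) w := by
      rw [e1, e1', add_assoc, add_self' h2, add_zero]
    have k2 : (w + φ s w + φ (s ^ 2) w) + φ t (w + φ s w + φ (s ^ 2) w) + φ (t ^ 2) (w + φ s w + φ (s ^ 2) w) =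
        w + φ s w + φ (s ^ 2) w := by
      rw [e2, e2', add_assoc, add_self' h2, add_zero]
    rw [← k1, ← k2]
    simp only [map_add, ← ap]
    have c1 := hcomm 1 1
    have c2 := hcomm 2 1
    have c3 := hcomm 1 2
    have c4 := hcomm 2 2
    simp only [pow_one] at c1 c2 c3
    rw [c1, c2, c3, c4]
    abel
  have hs2 : φ t (w + φ s w + φ (s ^ 2) w) = w + φ s w + φ (s ^ 2) w := h3 _ (N hs w)
  have hB : φ t (φ s w) + φ t (φ (s ^ 2) w) = φ t w + (w + φ t w + φ (t ^ 2) w) := by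
    rw [map_add, map_add, add_assoc] at hs2
    have := congrArg (fun z => φ t w + z) hs2
    rw [← add_assoc, add_self' h2, zero_add] at this
    rw [this, hAB]
  have e3 : t * s * (t * s ^ 2) = t ^ 2 := by
    calc t * s * (t * s ^ 2) = t * (s * t) * s ^ 2 := by simp only [mul_assoc]
      _ = t * (t * s) * s ^ 2 := by rw [hts]
      _ = t ^ 2 * s ^ 3 := by simp only [pow_succ, pow_zero, one_mul, mul_assoc]
      _ = t ^ 2 := by rw [hs, mul_one]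
  rw [map_add, ← ap, e3, ap φ t s, ap φ t (s ^ 2)]
  have hB2 : φ t (φ s w) = φ t (φ (s ^ 2) w) + (φ t w + (w + φ t w + φ (t ^ 2) w)) := by
    rw [← hB, add_comm (φ t (φ s w)), ← add_assoc, add_self' h2, zero_add]
  rw [hB2]
  have e4 : φ (t ^ 2) w + (φ t (φ (s ^ 2) w) + (φ t w + (w + φ t w + φ (t ^ 2) w))) =
      (φ t (φ (s ^ 2) w) + w) + ((φ (t ^ 2) w + φ (t ^ 2) w) + (φ t w + φ t w)) := by abel
  rw [e4, add_self' h2, add_self' h2, add_zero, add_zero]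

variable {φ} in
/-- `7:3`: `C³` embeds in `W`. -/
theorem seven_inj {x d : L} (h2 : ∀ w : W, 2 • w = 0) (hx : x ^ 7 = 1) (hd : d * x = x ^ 2 * d)
    (hN : ∀ w, ∑ i ∈ range 7, φ (x ^ i) w = 0) {a b c : W} (ha : φ d a = a) (hb : φ d b = b) (hc : φ d c = c)
    (h : a + φ x b + φ (x ^ 2) c = 0) : a = 0 ∧ b = 0 ∧ c = 0 := by
  have hdk : ∀ k : ℕ, ∀ w, φ d w = w → φ d (φ (x ^ k) w) = φ (x ^ (2 * k)) w := by
    intro k w hw
    have e : d * x ^ k = x ^ (2 * k) * d := by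
      have : SemiconjBy d x (x ^ 2) := hd
      have h1 := this.pow_right k
      rw [← pow_mul] at h1
      exact h1
    rw [← ap, e, ap, hw]
  have h7 : ∀ k w, φ (x ^ (k + 7)) w = φ (x ^ k) w := by
    intro k w
    rw [pow_add, hx, mul_one]
  have E1 : a + φ (x ^ 1) b + φ (x ^ 2) c = 0 := by rw [pow_one]; exact h
  have E2 : a + φ (x ^ 2) b + φ (x ^ 4) c = 0 := by
    have := congrArg (φ d) E1
    rwa [map_zero, map_add, map_add, ha, hdk _ _ hb, hdk _ _ hc] at this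
  have E3 : a + φ (x ^ 4) b + φ (x ^ 1) c = 0 := by
    have := congrArg (φ d) E2
    rw [map_zero, map_add, map_add, ha, hdk _ _ hb, hdk _ _ hc] at this
    have e : φ (x ^ (2 * 4)) c = φ (x ^ 1) c := h7 1 c
    rwa [e] at this
  -- `B i = x^i b`, `C i = x^i c`
  obtain ⟨B, hB⟩ : ∃ B : ℕ → W, B = fun i => φ (x ^ i) b := ⟨_, rfl⟩
  obtain ⟨C, hC⟩ : ∃ C : ℕ → W, C = fun i => φ (x ^ i) c := ⟨_, rfl⟩
  have sh : ∀ (k i : ℕ) (w : W), φ (x ^ k) (φ (x ^ i) w) = φ (x ^ (k + i)) w := by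
    intro k i w; rw [← ap, pow_add]
  have R1 : ∀ k, B (k + 1) + B (k + 2) + C (k + 2) + C (k + 4) = 0 := by
    intro k
    have e : φ (x ^ 1) b + φ (x ^ 2) b + φ (x ^ 2) c + φ (x ^ 4) c = 0 := by
      have e0 : φ (x ^ 1) b + φ (x ^ 2) b + φ (x ^ 2) c + φ (x ^ 4) c =
        (a + φ (x ^ 1) b + φ (x ^ 2) c) + (a + φ (x ^ 2) b + φ (x ^ 4) c) - (a + a) := by abel
      rw [e0, E1, E2, add_zero, add_self' h2, sub_zero]
    have := congrArg (φ (x ^ k)) e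
    rw [map_zero, map_add, map_add, map_add, sh, sh, sh, sh] at this
    rw [hB, hC]; exact this
  have R2 : ∀ k, B (k + 2) + B (k + 4) + C (k + 4) + C (k + 1) = 0 := by
    intro k
    have e : φ (x ^ 2) b + φ (x ^ 4) b + φ (x ^ 4) c + φ (x ^ 1) c = 0 := by
      have e0 : φ (x ^ 2) b + φ (x ^ 4) b + φ (x ^ 4) c + φ (x ^ 1) c =
        (a + φ (x ^ 2) b + φ (x ^ 4) c) + (a + φ (x ^ 4) b + φ (x ^ 1) c) - (a + a) := by abel
      rw [e0, E2, E3, add_zero, add_self' h2, sub_zero]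
    have := congrArg (φ (x ^ k)) e
    rw [map_zero, map_add, map_add, map_add, sh, sh, sh, sh] at this
    rw [hB, hC]; exact this
  have C7 : ∀ k, C (k + 7) = C k := by intro k; rw [hC]; exact h7 k c
  have B7 : ∀ k, B (k + 7) = B k := by intro k; rw [hB]; exact h7 k b
  have R3 : ∀ k, C (k + 1) + C (k + 3) + C (k + 5) + C (k + 6) = 0 := by
    intro k
    have e := R1 (k + 1)
    have e' := R1 (k + 2)
    have e'' := R2 k
    simp only [add_assoc, Nat.reduceAdd] at e e' e'' ⊢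
    have e0 : C (k + 1) + (C (k + 3) + (C (k + 5) + C (k + 6))) =
        (B (k + 2) + (B (k + 3) + (C (k + 3) + C (k + 5)))) + (B (k + 3) + (B (k + 4) + (C (k + 4) + C (k + 6)))) +
        (B (k + 2) + (B (k + 4) + (C (k + 4) + C (k + 1)))) - (B (k + 2) + B (k + 2)) - (B (k + 3) + B (k + 3)) -
        (B (k + 4) + B (k + 4)) - (C (k + 4) + C (k + 4)) := by abel
    rw [e0, e, e', e'']
    simp only [add_self' h2, sub_zero]
  have N7 : C 0 + C 1 + C 2 + C 3 + C 4 + C 5 + C 6 = 0 := by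
    have := hN c
    simp only [sum_range_succ, sum_range_zero, zero_add] at this
    rw [hC]; exact this
  have c0 : c = 0 := by
    have e := R3 1
    have e' := R3 2
    simp only [Nat.reduceAdd] at e e'
    have k7 : C 7 = C 0 := C7 0
    have k8 : C 8 = C 1 := C7 1
    rw [k7] at e e'
    rw [k8] at e'
    have e0 : C 0 = (C 2 + C 4 + C 6 + C 0) + (C 3 + C 5 + C 0 + C 1) - (C 0 + C 1 + C 2 + C 3 + C 4 + C 5 + C 6) := by abel
    rw [e, e', N7, add_zero, sub_zero] at e0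
    rw [hC] at e0
    simpa [ap_one] using e0
  have hC0 : ∀ k, C k = 0 := by intro k; rw [hC, c0]; exact map_zero _
  have hB1 : ∀ k, B (k + 1) = B (k + 2) := by
    intro k
    have e := R1 k
    rw [hC0, hC0, add_zero, add_zero] at e
    exact eq_of_add h2 e
  have b0 : b = 0 := by
    have e1 : B 0 = B 1 := by
      have := hB1 6
      simp only [Nat.reduceAdd] at this
      rwa [show B 7 = B 0 from B7 0, show B 8 = B 1 from B7 1] at this
    have e2 := hB1 0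
    have e3 := hB1 1
    have e4 := hB1 2
    have e5 := hB1 3
    have e6 := hB1 4
    simp only [Nat.reduceAdd] at e2 e3 e4 e5 e6
    have := hN b
    simp only [sum_range_succ, sum_range_zero, zero_add] at this
    have e7 : B 0 + B 1 + B 2 + B 3 + B 4 + B 5 + B 6 = 0 := by rw [hB]; exact this
    rw [← e6, ← e5, ← e4, ← e3, ← e2, ← e1] at e7
    simp only [add_self' h2, zero_add] at e7
    rw [hB] at e7
    simpa [ap_one] using e7
  refine ⟨?_, b0, c0⟩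
  rw [b0, c0, map_zero, map_zero, add_zero, add_zero] at h
  exact h

theorem false_of_data [Finite W] [Nontrivial W] (h2 : ∀ w : W, 2 • w = 0) {t s x g : L} (hts : t * s = s * t)
    (ht : t ^ 3 = 1) (hs : s ^ 3 = 1) (h1 : ∀ w, φ t w = w → φ s w = w) (h3 : ∀ w, φ s w = w → φ t w = w)
    (hx : x ^ 7 = 1) (hd : t * s * x = x ^ 2 * (t * s)) (hN : ∀ w, ∑ i ∈ range 7, φ (x ^ i) w = 0)
    (hg : g * (t * s) = t * s ^ 2 * g) : False := by
  let Fx : L → AddSubgroup W := fun d =>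
    { carrier := {w | φ d w = w}
      zero_mem' := map_zero _
      add_mem' := fun {a b} ha hb => by
        show φ d (a + b) = a + b
        rw [map_add]
        exact congrArg₂ (· + ·) ha hb
      neg_mem' := fun {a} ha => by
        show φ d (-a) = -a
        rw [map_neg]
        exact congrArg Neg.neg ha }
  have hmem : ∀ d w, w ∈ Fx d ↔ φ d w = w := fun d w => Iff.rfl
  -- `|C(d₂)| ≤ |C(d₁)|`
  have c1 : Nat.card (Fx (t * s ^ 2)) ≤ Nat.card (Fx (t * s)) := by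
    refine Nat.card_le_card_of_injective (fun w : Fx (t * s ^ 2) => (⟨φ g⁻¹ w, ?_⟩ : Fx (t * s))) ?_
    · rw [hmem]
      refine fix_conj φ ?_ w.2
      rw [inv_mul_eq_iff_eq_mul, ← mul_assoc, hg, mul_inv_cancel_right]
    · intro a b hab
      have e : φ g⁻¹ (a : W) = φ g⁻¹ (b : W) := congrArg Subtype.val hab
      have e' := congrArg (φ g) e
      rw [ap_inv, ap_inv] at e'
      exact Subtype.ext e'
  -- `|W| ≤ |C(d₂)| |C(d₁)|`
  have c2 : Nat.card W ≤ Nat.card (Fx (t * s)) * Nat.card (Fx (t * s ^ 2)) := by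
    let ψ : W →+ W :=
      { toFun := fun w => φ (t * s ^ 2) w + w
        map_zero' := by rw [map_zero, add_zero]
        map_add' := fun a b => by rw [map_add]; abel }
    have hψ : ∀ w, ψ w = φ (t * s ^ 2) w + w := fun w => rfl
    have hker : ψ.ker = Fx (t * s ^ 2) := by
      ext w
      rw [AddMonoidHom.mem_ker, hψ, hmem]
      constructor
      · intro h; exact eq_of_add h2 h
      · intro h; rw [h, add_self' h2]
    have hr : ψ.range ≤ Fx (t * s) := by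
      rintro _ ⟨w, rfl⟩
      rw [hmem, hψ]
      exact fix_of h2 hts ht hs h1 h3 w
    rw [AddSubgroup.card_eq_card_quotient_mul_card_addSubgroup ψ.ker,
      Nat.card_congr (QuotientAddGroup.quotientKerEquivRange ψ).toEquiv, hker]
    exact Nat.mul_le_mul_right _ (Nat.card_le_card_of_injective _ (AddSubgroup.inclusion_injective hr))
  -- `|C|³ ≤ |W|`
  have c3 : Nat.card (Fx (t * s) × Fx (t * s) × Fx (t * s)) ≤ Nat.card W := by
    refine Nat.card_le_card_of_injective (fun p => (p.1 : W) + φ x p.2.1 + φ (x ^ 2) p.2.2) ?_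
    intro p q hpq
    have e : ((p.1 - q.1 : Fx (t * s)) : W) + φ x ((p.2.1 - q.2.1 : Fx (t * s)) : W) +
        φ (x ^ 2) ((p.2.2 - q.2.2 : Fx (t * s)) : W) = 0 := by
      have e0 : (p.1 : W) + φ x p.2.1 + φ (x ^ 2) p.2.2 = (q.1 : W) + φ x q.2.1 + φ (x ^ 2) q.2.2 := hpq
      rw [AddSubgroup.coe_sub, AddSubgroup.coe_sub, AddSubgroup.coe_sub, map_sub, map_sub]
      rw [← sub_eq_zero] at e0
      rw [← e0]
      abel
    obtain ⟨ea, eb, ec⟩ := seven_inj h2 hx hd hN (p.1 - q.1).2 (p.2.1 - q.2.1).2 (p.2.2 - q.2.2).2 e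
    refine Prod.ext ?_ (Prod.ext ?_ ?_)
    · exact sub_eq_zero.1 (Subtype.ext ea)
    · exact sub_eq_zero.1 (Subtype.ext eb)
    · exact sub_eq_zero.1 (Subtype.ext ec)
  rw [Nat.card_prod, Nat.card_prod] at c3
  have c4 : 0 < Nat.card (Fx (t * s)) := Nat.card_pos
  have c5 : 1 < Nat.card W := Finite.one_lt_card
  generalize Nat.card (Fx (t * s)) = n at c1 c2 c3 c4
  generalize Nat.card (Fx (t * s ^ 2)) = m at c1 c2
  generalize Nat.card W = k at c2 c3 c5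
  have c6 : n * m ≤ n * n := Nat.mul_le_mul_left _ c1
  have c7 : n * (n * n) ≤ n * n := (c3.trans c2).trans c6
  have c8 : n ≤ 1 := by
    by_contra hn
    have : 2 * (n * n) ≤ n * (n * n) := Nat.mul_le_mul_right _ (by omega)
    have : 0 < n * n := Nat.mul_pos c4 c4
    omega
  have c9 : n = 1 := by omega
  subst c9
  omega

end abstr

/-! ### The group `Sp₆(2)` -/

abbrev S6 := Matrix.symplecticGroup (Fin 3) (ZMod 2)

/-- numbering of the basis -/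
def cd : Fin 3 ⊕ Fin 3 → Fin 6
  | .inl i => ![0, 1, 2] i
  | .inr i => ![3, 4, 5] i

/-- the matrix of a table -/
def mx (t : Fin 6 → Fin 6 → ZMod 2) : Matrix (Fin 3 ⊕ Fin 3) (Fin 3 ⊕ Fin 3) (ZMod 2) := Matrix.of fun i j => t (cd i) (cd j)

def t1 : S6 := ⟨mx ![![0, 0, 0, 1, 0, 0], ![0, 1, 0, 0, 0, 0], ![0, 0, 1, 0, 0, 0], ![1, 0, 0, 1, 0, 0], ![0, 0, 0, 0, 1, 0], ![0, 0, 0, 0, 0, 1]],
  by rw [SymplecticGroup.mem_iff]; decide +kernel⟩
def t2 : S6 := ⟨mx ![![1, 0, 0, 0, 0, 0], ![0, 0, 0, 0, 1, 0], ![0, 0, 1, 0, 0, 0], ![0, 0, 0, 1, 0, 0], ![0, 1, 0, 0, 1, 0], ![0, 0, 0, 0, 0, 1]],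
  by rw [SymplecticGroup.mem_iff]; decide +kernel⟩
def t3 : S6 := ⟨mx ![![1, 0, 0, 0, 0, 0], ![0, 1, 0, 0, 0, 0], ![0, 0, 0, 0, 0, 1], ![0, 0, 0, 1, 0, 0], ![0, 0, 0, 0, 1, 0], ![0, 0, 1, 0, 0, 1]],
  by rw [SymplecticGroup.mem_iff]; decide +kernel⟩
def u4 : S6 := ⟨mx ![![0, 1, 0, 0, 0, 0], ![0, 0, 0, 1, 0, 0], ![0, 0, 1, 0, 0, 0], ![0, 0, 0, 0, 1, 0], ![1, 0, 0, 0, 0, 0], ![0, 0, 0, 0, 0, 1]],
  by rw [SymplecticGroup.mem_iff]; decide +kernel⟩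
def p13 : S6 := ⟨mx ![![0, 0, 1, 0, 0, 0], ![0, 1, 0, 0, 0, 0], ![1, 0, 0, 0, 0, 0], ![0, 0, 0, 0, 0, 1], ![0, 0, 0, 0, 1, 0], ![0, 0, 0, 1, 0, 0]],
  by rw [SymplecticGroup.mem_iff]; decide +kernel⟩
def s3 : S6 := ⟨mx ![![1, 0, 0, 0, 0, 0], ![0, 1, 0, 0, 0, 0], ![0, 0, 0, 0, 0, 1], ![0, 0, 0, 1, 0, 0], ![0, 0, 0, 0, 1, 0], ![0, 0, 1, 0, 0, 0]],
  by rw [SymplecticGroup.mem_iff]; decide +kernel⟩
def x7 : S6 := ⟨mx ![![1, 0, 0, 1, 1, 0], ![0, 0, 1, 0, 1, 1], ![1, 1, 0, 0, 0, 1], ![0, 1, 1, 0, 1, 0], ![1, 0, 0, 1, 1, 1], ![0, 1, 0, 1, 0, 1]],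
  by rw [SymplecticGroup.mem_iff]; decide +kernel⟩

/-- equality of elements from equality of matrices -/
theorem s6_ext {a b : S6} (h : (a : Matrix (Fin 3 ⊕ Fin 3) (Fin 3 ⊕ Fin 3) (ZMod 2)) = b) : a = b := Subtype.ext h

def Kt : Fin 9 → Fin 6 → Fin 6 → ZMod 2 := ![![![1, 0, 0, 0, 0, 0], ![0, 1, 0, 0, 0, 0], ![0, 0, 1, 0, 0, 0], ![0, 0, 0, 1, 0, 0], ![0, 0, 0, 0, 1, 0], ![0, 0, 0, 0, 0, 1]],
  ![![0, 0, 0, 1, 0, 0], ![0, 1, 0, 0, 0, 0], ![0, 0, 1, 0, 0, 0], ![1, 0, 0, 1, 0, 0], ![0, 0, 0, 0, 1, 0], ![0, 0, 0, 0, 0, 1]],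
  ![![1, 0, 0, 1, 0, 0], ![0, 1, 0, 0, 0, 0], ![0, 0, 1, 0, 0, 0], ![1, 0, 0, 0, 0, 0], ![0, 0, 0, 0, 1, 0], ![0, 0, 0, 0, 0, 1]],
  ![![1, 0, 0, 0, 0, 0], ![0, 0, 0, 0, 1, 0], ![0, 0, 1, 0, 0, 0], ![0, 0, 0, 1, 0, 0], ![0, 1, 0, 0, 1, 0], ![0, 0, 0, 0, 0, 1]],
  ![![0, 0, 0, 1, 0, 0], ![0, 0, 0, 0, 1, 0], ![0, 0, 1, 0, 0, 0], ![1, 0, 0, 1, 0, 0], ![0, 1, 0, 0, 1, 0], ![0, 0, 0, 0, 0, 1]],
  ![![1, 0, 0, 1, 0, 0], ![0, 0, 0, 0, 1, 0], ![0, 0, 1, 0, 0, 0], ![1, 0, 0, 0, 0, 0], ![0, 1, 0, 0, 1, 0], ![0, 0, 0, 0, 0, 1]],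
  ![![1, 0, 0, 0, 0, 0], ![0, 1, 0, 0, 1, 0], ![0, 0, 1, 0, 0, 0], ![0, 0, 0, 1, 0, 0], ![0, 1, 0, 0, 0, 0], ![0, 0, 0, 0, 0, 1]],
  ![![0, 0, 0, 1, 0, 0], ![0, 1, 0, 0, 1, 0], ![0, 0, 1, 0, 0, 0], ![1, 0, 0, 1, 0, 0], ![0, 1, 0, 0, 0, 0], ![0, 0, 0, 0, 0, 1]],
  ![![1, 0, 0, 1, 0, 0], ![0, 1, 0, 0, 1, 0], ![0, 0, 1, 0, 0, 0], ![1, 0, 0, 0, 0, 0], ![0, 1, 0, 0, 0, 0], ![0, 0, 0, 0, 0, 1]]]
def Ut : Fin 4 → Fin 6 → Fin 6 → ZMod 2 := ![![![1, 0, 0, 0, 0, 0], ![0, 1, 0, 0, 0, 0], ![0, 0, 1, 0, 0, 0], ![0, 0, 0, 1, 0, 0], ![0, 0, 0, 0, 1, 0], ![0, 0, 0, 0, 0, 1]],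
  ![![0, 1, 0, 0, 0, 0], ![0, 0, 0, 1, 0, 0], ![0, 0, 1, 0, 0, 0], ![0, 0, 0, 0, 1, 0], ![1, 0, 0, 0, 0, 0], ![0, 0, 0, 0, 0, 1]],
  ![![0, 0, 0, 1, 0, 0], ![0, 0, 0, 0, 1, 0], ![0, 0, 1, 0, 0, 0], ![1, 0, 0, 0, 0, 0], ![0, 1, 0, 0, 0, 0], ![0, 0, 0, 0, 0, 1]],
  ![![0, 0, 0, 0, 1, 0], ![1, 0, 0, 0, 0, 0], ![0, 0, 1, 0, 0, 0], ![0, 1, 0, 0, 0, 0], ![0, 0, 0, 1, 0, 0], ![0, 0, 0, 0, 0, 1]]]
def sg : Fin 4 → Fin 9 → Fin 9 := ![![0, 0, 0, 0, 0, 0, 0, 0, 0], ![0, 4, 8, 5, 6, 1, 7, 2, 3], ![0, 2, 1, 6, 8, 7, 3, 5, 4], ![0, 7, 5, 4, 2, 6, 8, 3, 1]]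

theorem p3 {G : Type*} [Monoid G] (x : G) : x ^ 3 = x * x * x := by simp only [pow_succ, pow_zero, one_mul]

def K (m : Fin 9) : S6 := ⟨mx (Kt m), by rw [SymplecticGroup.mem_iff]; revert m; decide +kernel⟩
def U (i : Fin 4) : S6 := ⟨mx (Ut i), by rw [SymplecticGroup.mem_iff]; revert i; decide +kernel⟩

theorem u_pow (i : Fin 4) : u4 ^ (i : ℕ) = U i := by
  fin_cases i
  · exact s6_ext (by decide +kernel)
  · exact s6_ext (by decide +kernel)
  · rw [show u4 ^ ((⟨2, by decide⟩ : Fin 4) : ℕ) = u4 * u4 from pow_two u4]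
    exact s6_ext (by decide +kernel)
  · rw [show u4 ^ ((⟨3, by decide⟩ : Fin 4) : ℕ) = u4 * u4 * u4 from p3 u4]
    exact s6_ext (by decide +kernel)

theorem hK (i : Fin 4) (m : Fin 9) : K m * U i = K (sg i m) * U i * K m := by
  apply s6_ext
  revert i m
  decide +kernel

theorem t1_three : t1 ^ 3 = 1 := by rw [p3]; exact s6_ext (by decide +kernel)
theorem t3_three : t3 ^ 3 = 1 := by rw [p3]; exact s6_ext (by decide +kernel)
theorem t13 : t1 * t3 = t3 * t1 := s6_ext (by decide +kernel)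
theorem t3_K (m : Fin 9) : t3 * K m = K m * t3 := by
  apply s6_ext
  revert m
  decide +kernel
theorem t3_u : t3 * u4 = u4 * t3 := s6_ext (by decide +kernel)
theorem t1_K (m : Fin 9) : t1 * K m = K (![1, 2, 0, 4, 5, 3, 7, 8, 6] m) * t3 ^ 0 := by
  rw [pow_zero, mul_one]
  apply s6_ext
  revert m
  decide +kernel
theorem u_four : u4 ^ 4 = 1 := by
  rw [show u4 ^ 4 = u4 ^ 2 * u4 ^ 2 by rw [← pow_add]]
  have h2 : u4 ^ 2 = U 2 := u_pow 2
  rw [h2]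
  exact s6_ext (by decide +kernel)
theorem u_two : u4 ^ 2 ≠ 1 := by
  have h2 : u4 ^ 2 = U 2 := u_pow 2
  rw [h2]
  intro h
  have := congrArg Subtype.val h
  revert this
  decide +kernel
theorem t3_ne : t3 ≠ 1 := by
  intro h
  have := congrArg Subtype.val h
  revert this
  decide +kernel
theorem p_t1 : p13 * t1 = t3 * p13 := s6_ext (by decide +kernel)
theorem p_t3 : p13 * t3 = t1 * p13 := s6_ext (by decide +kernel)
theorem p_p : p13 * p13 = 1 := s6_ext (by decide +kernel)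
theorem s_d : s3 * (t1 * t3) = t1 * t3 ^ 2 * s3 := by
  rw [pow_two]
  exact s6_ext (by decide +kernel)
def x72 : S6 := ⟨mx ![![0, 1, 1, 0, 1, 1], ![0, 0, 0, 0, 1, 1], ![1, 1, 1, 0, 0, 0], ![0, 1, 1, 1, 0, 1], ![0, 0, 1, 1, 1, 0], ![0, 0, 0, 1, 0, 0]],
  by rw [SymplecticGroup.mem_iff]; decide +kernel⟩
def x74 : S6 := ⟨mx ![![1, 1, 0, 0, 0, 1], ![0, 0, 1, 0, 1, 0], ![1, 0, 0, 0, 0, 0], ![1, 0, 0, 0, 1, 0], ![1, 0, 1, 0, 1, 1], ![0, 1, 1, 1, 0, 1]],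
  by rw [SymplecticGroup.mem_iff]; decide +kernel⟩
theorem x_two : x7 ^ 2 = x72 := by rw [pow_two]; exact s6_ext (by decide +kernel)
theorem x_four : x7 ^ 4 = x74 := by
  rw [show x7 ^ 4 = x7 ^ 2 * x7 ^ 2 by rw [← pow_add], x_two]
  exact s6_ext (by decide +kernel)
theorem x_seven : x7 ^ 7 = 1 := by
  rw [show x7 ^ 7 = x7 ^ 4 * x7 ^ 2 * x7 by rw [← pow_add, ← pow_succ], x_two, x_four]
  exact s6_ext (by decide +kernel)
theorem x_ne : x7 ≠ 1 := by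
  intro h
  have := congrArg Subtype.val h
  revert this
  decide +kernel
theorem d_x : t1 * t3 * x7 = x7 ^ 2 * (t1 * t3) := by
  rw [x_two]
  exact s6_ext (by decide +kernel)

theorem ord_x : orderOf x7 = 7 :=
  haveI : Fact (Nat.Prime 7) := ⟨by norm_num⟩
  orderOf_eq_prime x_seven x_ne

theorem ord_tu : orderOf (t3 * u4) = 12 := by
  have hc : Commute t3 u4 := t3_u
  have h3 : ∀ k, t3 ^ (3 * k) = 1 := fun k => by rw [pow_mul, t3_three, one_pow]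
  have h4 : ∀ k, u4 ^ (4 * k) = 1 := fun k => by rw [pow_mul, u_four, one_pow]
  refine orderOf_eq_of_pow_and_pow_div_prime (by norm_num) ?_ ?_
  · rw [hc.mul_pow, show t3 ^ 12 = t3 ^ (3 * 4) from rfl, show u4 ^ 12 = u4 ^ (4 * 3) from rfl, h3, h4, mul_one]
  · intro p hp hpd
    have hpp : p = 2 ∨ p = 3 := by
      have h1 : p ∣ 2 ^ 2 * 3 := by simpa using hpd
      rcases (Nat.Prime.dvd_mul hp).1 h1 with h | h
      · exact Or.inl ((Nat.prime_dvd_prime_iff_eq hp Nat.prime_two).1 (hp.dvd_of_dvd_pow h))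
      · exact Or.inr ((Nat.prime_dvd_prime_iff_eq hp Nat.prime_three).1 h)
    rcases hpp with rfl | rfl
    · show (t3 * u4) ^ 6 ≠ 1
      rw [hc.mul_pow, show t3 ^ 6 = t3 ^ (3 * 2) from rfl, show u4 ^ 6 = u4 ^ (4 * 1) * u4 ^ 2 by rw [← pow_add], h3, h4, one_mul,
        one_mul]
      exact u_two
    · show (t3 * u4) ^ 4 ≠ 1
      rw [hc.mul_pow, show t3 ^ 4 = t3 ^ (3 * 1) * t3 by rw [← pow_succ], u_four, h3, one_mul, mul_one]
      exact t3_ne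

theorem hit_s6 (h24 : ∀ y : S6, orderOf y ≠ 24) (h14 : ∀ y : S6, orderOf y ≠ 14) : Hit.{u, 0} 2 S6 := by
  intro W _ _ _ h2 φ
  by_contra hcon
  push Not at hcon
  have n12 : ∀ w, ∑ i ∈ range 12, φ ((t3 * u4) ^ i) w = 0 := by
    intro w
    by_contra hne
    obtain ⟨y, hy⟩ := hcon (t3 * u4) w (by rw [ord_tu]; exact hne)
    exact h24 y (by rw [hy, ord_tu])
  have n7 : ∀ w, ∑ i ∈ range 7, φ (x7 ^ i) w = 0 := by
    intro w
    by_contra hne
    obtain ⟨y, hy⟩ := hcon x7 w (by rw [ord_x]; exact hne)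
    exact h14 y (by rw [hy, ord_x])
  have h3 : ∀ w, φ t3 w = w → φ t1 w = w := by
    intro w hw
    refine frob φ (n := 9) (e := 4) K t3 u4 t1 (fun i => if h : i < 4 then sg ⟨i, h⟩ else id) (fun _ _ => 0)
      ![1, 2, 0, 4, 5, 3, 7, 8, 6] (fun _ => 0) ?_ ?_ t3_K t3_u (by decide) t1_K (by norm_num) ?_ ?_ hw
    · intro i h0 h4
      interval_cases i
      · show Function.Injective (sg 1); decide
      · show Function.Injective (sg 2); decide
      · show Function.Injective (sg 3); decide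
    · intro i _ h4 m
      simp only [h4, dif_pos, pow_zero, mul_one]
      rw [show u4 ^ i = U ⟨i, h4⟩ from u_pow ⟨i, h4⟩]
      exact hK ⟨i, h4⟩ m
    · intro w
      have e : (9 : ℕ) • w = 4 • (2 • w) + w := by
        rw [← mul_nsmul', ← succ_nsmul]
      rw [e, h2, nsmul_zero, zero_add]
    · intro w hw
      have h := norm_of_fixed φ (m := 3) (n := 4) t3_u u_four hw (n12 w)
      have e : ∀ z : W, 3 • z = 2 • z + z := fun z => by rw [← succ_nsmul]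
      rwa [e, h2, zero_add] at h
  have h1 : ∀ w, φ t1 w = w → φ t3 w = w := by
    intro w hw
    have e1 := fix_conj φ p_t1 hw
    have e2 := h3 _ e1
    have e3 := fix_conj φ p_t1 e2
    have e4 : φ p13 (φ p13 w) = w := by rw [← ap, p_p, ap_one]
    rwa [e4] at e3
  exact false_of_data φ h2 t13 t1_three t3_three h1 h3 x_seven d_x n7 s_d

theorem no_24 (y : PSp 3 (ZMod 2)) : orderOf y ≠ 24 := by
  intro h
  have : Fact (Nat.Prime 2) := ⟨Nat.prime_two⟩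
  have h1 := Cfsg.Agent.S2264.result (F := ZMod 2) 3 (by norm_num) y
  rw [ZMod.card, h] at h1
  norm_num at h1

open Pointwise in
theorem no_14 (y : PSp 3 (ZMod 2)) : orderOf y ≠ 14 := by
  intro h
  have : Fact (Nat.Prime 2) := ⟨Nat.prime_two⟩
  have : Fact (Nat.Prime 7) := ⟨by norm_num⟩
  have hF : Fintype.card (ZMod 2) = 2 := ZMod.card 2
  obtain ⟨R, hR, hRc⟩ := H732.SelfCent.psp_six_two hF
  have hc := H732.SelfCent.card_psp hF (n := 3) (by norm_num)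
  rw [show Nat.gcd 2 (2 - 1) = 1 by norm_num] at hc
  simp only [Finset.prod_range_succ, Finset.prod_range_zero] at hc
  have hcard : Nat.card (PSp 3 (ZMod 2)) = 1451520 := by
    norm_num at hc ⊢
    omega
  have hf : Finite (PSp 3 (ZMod 2)) := Nat.finite_of_card_ne_zero (by rw [hcard]; norm_num)
  -- `⟨y²⟩` and `R` are Sylow 7-subgroups
  have hz : orderOf (y ^ 2) = 7 := by rw [orderOf_pow, h]; norm_num
  have hQ : Nat.card (Subgroup.zpowers (y ^ 2)) = 7 ^ (Nat.card (PSp 3 (ZMod 2))).factorization 7 := by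
    rw [Nat.card_zpowers, hz, hcard]
    have : (1451520 : ℕ).factorization 7 = 1 := by
      rw [show (1451520 : ℕ) = 7 ^ 1 * 207360 by norm_num]
      rw [Nat.factorization_mul (by norm_num) (by norm_num), Finsupp.add_apply,
        Nat.factorization_eq_zero_of_not_dvd (n := 207360) (by norm_num), Nat.Prime.factorization_pow (by norm_num)]
      simp
    rw [this, pow_one]
  have hR' : Nat.card R = 7 ^ (Nat.card (PSp 3 (ZMod 2))).factorization 7 := by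
    rw [← hQ, hR, Nat.card_zpowers, hz]
  let P := Sylow.ofCard (Subgroup.zpowers (y ^ 2)) hQ
  let Q := Sylow.ofCard R hR'
  obtain ⟨g, hg⟩ := MulAction.exists_smul_eq (PSp 3 (ZMod 2)) P Q
  have hmem : ∀ z ∈ Subgroup.zpowers (y ^ 2), g * z * g⁻¹ ∈ R := by
    intro z hz
    have h1 : MulAut.conj g • (P : Subgroup (PSp 3 (ZMod 2))) = Q := by
      rw [← Sylow.coe_subgroup_smul, hg]
    have h2 : MulAut.conj g • z ∈ MulAut.conj g • (P : Subgroup (PSp 3 (ZMod 2))) :=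
      Subgroup.smul_mem_pointwise_smul _ _ _ hz
    rw [h1] at h2
    exact h2
  have hle : R ≤ Subgroup.zpowers (g * y ^ 2 * g⁻¹) := by
    have h1 : Subgroup.zpowers (g * y ^ 2 * g⁻¹) ≤ R := by
      rw [Subgroup.zpowers_le]
      exact hmem _ (Subgroup.mem_zpowers _)
    have h2 : Nat.card (Subgroup.zpowers (g * y ^ 2 * g⁻¹)) = 7 := by
      rw [Nat.card_zpowers, ← hz]
      exact orderOf_injective (MulAut.conj g).toMonoidHom (MulAut.conj g).injective (y ^ 2)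
    exact (Subgroup.eq_of_le_of_card_ge h1 (by rw [hR, h2])).ge
  have hy : g * y * g⁻¹ ∈ R := by
    rw [← hRc, Subgroup.mem_centralizer_iff]
    intro z hz
    obtain ⟨k, rfl⟩ := Subgroup.mem_zpowers_iff.1 (hle hz)
    have : Commute (g * y ^ 2 * g⁻¹) (g * y * g⁻¹) := by
      have h1 : g * y ^ 2 * g⁻¹ = (g * y * g⁻¹) ^ 2 := by
        rw [conj_pow]
      rw [h1]
      exact (Commute.refl _).pow_left 2
    exact (this.zpow_left k).eq
  have h3 : orderOf (g * y * g⁻¹) ∣ 7 := by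
    have := orderOf_dvd_natCard (⟨_, hy⟩ : R)
    rwa [Subgroup.orderOf_mk, hR] at this
  have h4 : orderOf (g * y * g⁻¹) = 14 := by
    rw [← h]
    exact orderOf_injective (MulAut.conj g).toMonoidHom (MulAut.conj g).injective y
  rw [h4] at h3
  norm_num at h3

/-- **S3442, `PSp₆(2)`.** -/
theorem hit_psp62 {F : Type v} [Field F] [Fintype F] (hF : Fintype.card F = 2) {r : ℕ} (hr : r.Prime) :
    Hit.{u, v} r (PSp 3 F) := by
  have : Fact (Nat.Prime 2) := ⟨Nat.prime_two⟩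
  have hch : CharP F 2 := by
    obtain ⟨p, hp⟩ := CharP.exists F
    obtain ⟨n, hpr, hn⟩ := FiniteField.card F p
    rw [hF] at hn
    have h1 : p ∣ 2 := by rw [hn]; exact dvd_pow_self p n.pos.ne'
    rwa [(Nat.prime_dvd_prime_iff_eq hpr Nat.prime_two).1 h1] at hp
  by_cases h2 : r = 2
  swap
  · exact H548.CV.hit_psp_even le_rfl hr h2
  subst h2
  have hz : Subgroup.center S6 = ⊥ := Cfsg.Agent.H403.center_symplectic (by norm_num)
  let j : PSp 3 (ZMod 2) ≃* S6 := (QuotientGroup.quotientMulEquivOfEq hz).trans QuotientGroup.quotientBot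
  have h1 : Hit.{u, 0} 2 S6 := hit_s6
    (fun y hy => no_24 (j.symm y) (by rw [MulEquiv.orderOf_eq, hy]))
    (fun y hy => no_14 (j.symm y) (by rw [MulEquiv.orderOf_eq, hy]))
  have e : F ≃+* ZMod 2 := FiniteField.ringEquivOfCardEq (by rw [hF, ZMod.card])
  exact h1.congr ((Cfsg.Agent.LieClassical.FieldTransfer.pspCongr 3 e).trans j)

end Cfsg.Agent.H467.CV
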